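import Groth.Agent.FpqcSheaf.Desc
import Groth.Agent.AlgSpLib.Basic
import Groth.Prelude.Def_AlgSpMor5
import Mathlib.RingTheory.Flat.TorsionFree
import Mathlib.RingTheory.RingHom.FaithfullyFlat
import Mathlib.AlgebraicGeometry.Morphisms.ClosedImmersion

/-!
# Valuative squares of separated morphisms: lifts descend along dominating extensions
-/

universe u

open CategoryTheory CategoryTheory.Limits AlgebraicGeometry Opposite TensorProduct

set_option backward.isDefEq.respectTransparency false

namespace Groth.Agent.ValSep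

open _root_.AlgSp Groth.Agent.AlgSpLib

/-- a closed immersion into an affine scheme through which a map injective on functions factors is an isomorphism -/
theorem isIso_of_injective_factor {W X Y : Scheme.{u}} [IsAffine X] [IsAffine Y] (w : W ⟶ X) [IsClosedImmersion w]
    (k : Y ⟶ W) (h : Function.Injective (k ≫ w).appTop) : IsIso w := by
  obtain ⟨hW, hs⟩ := (HasAffineProperty.iff_of_isAffine (P := @IsClosedImmersion)).1
    (‹IsClosedImmersion w› : IsClosedImmersion w)
  refine (HasAffineProperty.iff_of_isAffine (P := MorphismProperty.isomorphisms Scheme)).2 ⟨hW, ?_⟩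
  refine (ConcreteCategory.isIso_iff_bijective _).2 ⟨?_, hs⟩
  intro a b e
  apply h
  rw [Scheme.Hom.comp_appTop]
  exact congrArg (fun z => k.appTop z) e

/-- a torsion-free algebra over a valuation ring is flat -/
theorem flat_of_injective {A B : Type u} [CommRing A] [IsDomain A] [ValuationRing A] [CommRing B] [IsDomain B]
    [Algebra A B] (h : Function.Injective (algebraMap A B)) : Module.Flat A B := by
  rw [Module.Flat.flat_iff_torsion_eq_bot_of_isBezout, eq_bot_iff]
  rintro x ⟨⟨r, hr⟩, hx⟩
  have hx' : algebraMap A B r * x = 0 := by rw [← Algebra.smul_def]; exact hx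
  have : algebraMap A B r ≠ 0 := fun e => nonZeroDivisors.ne_zero hr (h (e.trans (map_zero _).symm))
  simpa [this] using hx'

variable {S : Scheme.{u}}

theorem hasLift_of_extension {X Y : Sp S} (hX : IsAlgSpace X) (hY : IsAlgSpace Y) (f : X ⟶ Y)
    (hf : IsSeparatedMor f) (sq : ValSq f) (e : sq.DomExt) (he : e.HasLift) : sq.HasLift := by
  obtain ⟨l, hl₁, hl₂⟩ := he
  algebraize [e.φ]
  let _ : Algebra sq.K e.K' := e.ψ.toAlgebra
  let _ : Algebra sq.A e.K' := ((algebraMap e.A' e.K').comp e.φ).toAlgebra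
  have hφ : Function.Injective e.φ := by
    intro a b h
    apply IsFractionRing.injective sq.A sq.K
    apply e.ψ.injective
    rw [← RingHom.comp_apply, ← RingHom.comp_apply, ← e.comm, RingHom.comp_apply, RingHom.comp_apply, h]
  have : IsScalarTower sq.A e.A' e.K' := .of_algebraMap_eq fun _ => rfl
  have hfl : Module.Flat sq.A e.A' := flat_of_injective hφ
  have hflK : Module.Flat sq.A e.K' := flat_of_injective
    ((IsFractionRing.injective e.A' e.K').comp hφ)
  have : IsLocalHom (algebraMap sq.A e.A') := e.isLocalHom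
  have hff : Module.FaithfullyFlat sq.A e.A' := Module.FaithfullyFlat.of_flat_of_isLocalHom
  let c : e.ptA' ⟶ sq.ptA := Over.homMk (Spec.map (CommRingCat.ofHom e.φ)) rfl
  have : Flat c.left := HasRingHomProperty.Spec_iff.2 (show (algebraMap sq.A e.A').Flat from
    RingHom.flat_algebraMap_iff.2 hfl)
  have : Surjective c.left := ⟨PrimeSpectrum.comap_surjective_of_faithfullyFlat (A := sq.A) (B := e.A')⟩
  have : QuasiCompact c.left := inferInstanceAs (QuasiCompact (Spec.map (CommRingCat.ofHom e.φ)))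
  -- the self product of `Spec A'` over `Spec A`
  let P : Over S := Over.mk (Spec.map (CommRingCat.ofHom (algebraMap sq.A (e.A' ⊗[sq.A] e.A'))) ≫ sq.str)
  let pr₁ : P ⟶ e.ptA' := Over.homMk (Spec.map (CommRingCat.ofHom
      (Algebra.TensorProduct.includeLeftRingHom : e.A' →+* e.A' ⊗[sq.A] e.A'))) (by
    show Spec.map _ ≫ Spec.map _ ≫ _ = _
    rw [← Spec.map_comp_assoc]
    rfl)
  let pr₂ : P ⟶ e.ptA' := Over.homMk (Spec.map (CommRingCat.ofHom
      ((Algebra.TensorProduct.includeRight : e.A' →ₐ[sq.A] e.A' ⊗[sq.A] e.A').toRingHom))) (by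
    show Spec.map _ ≫ Spec.map _ ≫ _ = _
    rw [← Spec.map_comp_assoc, ← CommRingCat.ofHom_comp]
    exact congrArg (fun r => Spec.map (CommRingCat.ofHom r) ≫ sq.str)
      (Algebra.TensorProduct.includeRight : e.A' →ₐ[sq.A] e.A' ⊗[sq.A] e.A').comp_algebraMap)
  have hpr : pr₁ ≫ c = pr₂ ≫ c := Over.OverMorphism.ext (by
    show Spec.map _ ≫ Spec.map _ = Spec.map _ ≫ Spec.map _
    rw [← Spec.map_comp, ← Spec.map_comp, ← CommRingCat.ofHom_comp, ← CommRingCat.ofHom_comp]
    exact congrArg (fun r => Spec.map (CommRingCat.ofHom r))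
      (Algebra.TensorProduct.includeRight : e.A' →ₐ[sq.A] e.A' ⊗[sq.A] e.A').comp_algebraMap.symm)
  -- the two pullbacks of the lift agree
  have heq : (yon S).map pr₁ ≫ l = (yon S).map pr₂ ≫ l := by
    have hP : ((yon S).map pr₁ ≫ l) ≫ f = ((yon S).map pr₂ ≫ l) ≫ f := by
      rw [Category.assoc, Category.assoc, hl₂]
      exact (((yon S).map_comp_assoc pr₁ c sq.bot).symm.trans (congrArg (fun m => (yon S).map m ≫ sq.bot) hpr)).trans
        ((yon S).map_comp_assoc pr₂ c sq.bot)
    obtain ⟨W, fst, w, sqd, hw⟩ := exists_repWith hf (pullback.lift _ _ hP)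
    have : IsClosedImmersion w.left := hw
    -- the diagonal contains the generic fibre
    let τ : e.A' ⊗[sq.A] e.A' →ₐ[sq.A] e.K' ⊗[sq.A] e.K' := Algebra.TensorProduct.map
      (IsScalarTower.toAlgHom sq.A e.A' e.K') (IsScalarTower.toAlgHom sq.A e.A' e.K')
    have hτ : Function.Injective τ := by
      have hi := IsFractionRing.injective e.A' e.K'
      let g := (IsScalarTower.toAlgHom sq.A e.A' e.K').toLinearMap
      have : (τ : e.A' ⊗[sq.A] e.A' → e.K' ⊗[sq.A] e.K') = (g.rTensor e.K').comp (g.lTensor e.A') := by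
        ext z
        induction z using TensorProduct.induction_on with
        | zero => simp
        | tmul x y => rfl
        | add x y hx hy => simp only [map_add, hx, hy]
      rw [this]
      exact (Module.Flat.rTensor_preserves_injective_linearMap (M := e.K') g hi).comp
        (Module.Flat.lTensor_preserves_injective_linearMap (M := e.A') g hi)
    let Q : Over S := Over.mk (Spec.map (CommRingCat.ofHom τ.toRingHom) ≫ P.hom)
    let q : Q ⟶ P := Over.homMk (Spec.map (CommRingCat.ofHom τ.toRingHom)) rfl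
    have hK : ∀ (pr : P ⟶ e.ptA') (i : e.K' →+* e.K' ⊗[sq.A] e.K') (p : e.A' →+* e.A' ⊗[sq.A] e.A'),
        pr.left = Spec.map (CommRingCat.ofHom p) → i.comp (algebraMap e.A' e.K') = τ.toRingHom.comp p →
        ∃ r : Q ⟶ sq.ptK, r.left = Spec.map (CommRingCat.ofHom (i.comp e.ψ)) ∧
          (yon S).map q ≫ (yon S).map pr ≫ l = (yon S).map r ≫ sq.top := by
      intro pr i p hpr' hip
      let r₀ : Q ⟶ e.ptK' := Over.homMk (Spec.map (CommRingCat.ofHom i)) (by
        show Spec.map _ ≫ Spec.map _ ≫ e.ptA'.hom = Spec.map _ ≫ P.hom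
        rw [← Spec.map_comp_assoc, ← Over.w pr, hpr', ← CommRingCat.ofHom_comp, hip, CommRingCat.ofHom_comp,
          Spec.map_comp_assoc])
      refine ⟨r₀ ≫ Over.homMk (Spec.map (CommRingCat.ofHom e.ψ)) (by
          change Spec.map _ ≫ Spec.map _ ≫ _ = Spec.map _ ≫ Spec.map _ ≫ _
          rw [← Spec.map_comp_assoc, ← Spec.map_comp_assoc, ← CommRingCat.ofHom_comp,
            ← CommRingCat.ofHom_comp, e.comm]), ?_, ?_⟩
      · show Spec.map _ ≫ Spec.map _ = _
        rw [← Spec.map_comp]
        rfl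
      · have : q ≫ pr = r₀ ≫ (Over.homMk (Spec.map (CommRingCat.ofHom (algebraMap e.A' e.K'))) rfl :
            e.ptK' ⟶ e.ptA') := Over.OverMorphism.ext (by
          show Spec.map _ ≫ pr.left = Spec.map _ ≫ Spec.map _
          rw [hpr', ← Spec.map_comp, ← Spec.map_comp, ← CommRingCat.ofHom_comp, ← CommRingCat.ofHom_comp, hip])
        refine ((yon S).map_comp_assoc q pr l).symm.trans ?_
        rw [this, Functor.map_comp, Category.assoc, hl₁, ← Functor.map_comp_assoc]
    obtain ⟨r₁, hr₁, hq₁⟩ := hK pr₁ Algebra.TensorProduct.includeLeftRingHom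
      Algebra.TensorProduct.includeLeftRingHom rfl (by
        ext x
        simp [τ])
    obtain ⟨r₂, hr₂, hq₂⟩ := hK pr₂
      (Algebra.TensorProduct.includeRight : e.K' →ₐ[sq.A] e.K' ⊗[sq.A] e.K').toRingHom
      (Algebra.TensorProduct.includeRight : e.A' →ₐ[sq.A] e.A' ⊗[sq.A] e.A').toRingHom rfl (by
        ext x
        simp [τ])
    have hr : r₁ = r₂ := Over.OverMorphism.ext (by
      rw [hr₁, hr₂]
      congr 2
      apply IsLocalization.ringHom_ext (nonZeroDivisors sq.A)
      rw [RingHom.comp_assoc, RingHom.comp_assoc, ← e.comm]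
      exact (Algebra.TensorProduct.includeRight : e.K' →ₐ[sq.A] e.K' ⊗[sq.A] e.K').comp_algebraMap.symm)
    obtain ⟨k, hk⟩ := exists_map_eq (sqd.lift ((yon S).map q ≫ (yon S).map pr₁ ≫ l) ((yon S).map q) (by
      apply pullback.hom_ext
      · simp
      · simp only [Category.assoc, pullback.diagonal_snd, pullback.lift_snd, Category.comp_id]
        rw [hq₁, hq₂, hr]))
    have hkw : k ≫ w = q := (yon S).map_injective (by rw [Functor.map_comp, hk, sqd.lift_snd])
    have : IsIso w.left := by
      have : IsAffine Q.left := inferInstanceAs (IsAffine (Spec (CommRingCat.of (e.K' ⊗[sq.A] e.K'))))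
      have : IsAffine P.left := inferInstanceAs (IsAffine (Spec (CommRingCat.of (e.A' ⊗[sq.A] e.A'))))
      refine isIso_of_injective_factor w.left k.left ?_
      rw [← Over.comp_left, hkw]
      intro a b h
      apply (ConcreteCategory.bijective_of_isIso (Scheme.ΓSpecIso (CommRingCat.of (e.A' ⊗[sq.A] e.A'))).hom).1
      apply hτ
      have h' := congrArg (Scheme.ΓSpecIso (CommRingCat.of (e.K' ⊗[sq.A] e.K'))).hom h
      exact ((congr($(Scheme.ΓSpecIso_naturality (CommRingCat.ofHom τ.toRingHom)) a)).symm.trans h').trans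
        (congr($(Scheme.ΓSpecIso_naturality (CommRingCat.ofHom τ.toRingHom)) b))
    have : IsIso w := (isIso_iff_of_reflects_iso w (Over.forget S)).1 this
    have hf' := congrArg (fun m => inv ((yon S).map w) ≫ m) sqd.w
    rw [IsIso.inv_hom_id_assoc] at hf'
    have h1 := congrArg (fun m => m ≫ pullback.fst f f) hf'
    have h2 := congrArg (fun m => m ≫ pullback.snd f f) hf'
    simp only [Category.assoc, pullback.diagonal_fst, pullback.diagonal_snd, pullback.lift_fst,
      pullback.lift_snd, Category.comp_id] at h1 h2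
    exact h1.symm.trans h2
  obtain ⟨b, hb⟩ := FpqcSheaf.exists_desc_flat hX c l fun W x y hxy => by
    have hxy' : x.left ≫ Spec.map (CommRingCat.ofHom (algebraMap sq.A e.A')) =
        y.left ≫ Spec.map (CommRingCat.ofHom (algebraMap sq.A e.A')) := congrArg (fun m => m.left) hxy
    let r₀ : W.left ⟶ P.left := pullback.lift x.left y.left hxy' ≫ (pullbackSpecIso sq.A e.A' e.A').hom
    have h1 : r₀ ≫ pr₁.left = x.left := by
      show (pullback.lift x.left y.left hxy' ≫ (pullbackSpecIso sq.A e.A' e.A').hom) ≫ Spec.map _ = _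
      rw [Category.assoc, pullbackSpecIso_hom_fst, pullback.lift_fst]
    have h2 : r₀ ≫ pr₂.left = y.left := by
      show (pullback.lift x.left y.left hxy' ≫ (pullbackSpecIso sq.A e.A' e.A').hom) ≫ Spec.map _ = _
      rw [Category.assoc]
      exact (congrArg (pullback.lift x.left y.left hxy' ≫ ·) (pullbackSpecIso_hom_snd sq.A e.A' e.A')).trans
        (pullback.lift_snd _ _ _)
    let r : W ⟶ P := Over.homMk r₀ (by rw [← Over.w pr₁, reassoc_of% h1, Over.w x])
    have e1 : r ≫ pr₁ = x := Over.OverMorphism.ext h1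
    have e2 : r ≫ pr₂ = y := Over.OverMorphism.ext h2
    rw [← e1, ← e2, Functor.map_comp_assoc, Functor.map_comp_assoc, heq]
  refine ⟨b, ?_, FpqcSheaf.hom_ext_of_flat hY c (by rw [← Category.assoc, hb, hl₂])⟩
  let d : e.ptK' ⟶ sq.ptK := Over.homMk (Spec.map (CommRingCat.ofHom e.ψ)) (by
    change Spec.map _ ≫ Spec.map _ ≫ _ = Spec.map _ ≫ Spec.map _ ≫ _
    rw [← Spec.map_comp_assoc, ← Spec.map_comp_assoc, ← CommRingCat.ofHom_comp, ← CommRingCat.ofHom_comp, e.comm])
  have : Flat d.left := HasRingHomProperty.Spec_iff.2 (show (algebraMap sq.K e.K').Flat from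
    RingHom.flat_algebraMap_iff.2 inferInstance)
  have : Surjective d.left := ⟨fun x => ⟨⟨⊥, Ideal.isPrime_bot⟩,
    Subsingleton.elim (α := PrimeSpectrum sq.K) _ _⟩⟩
  have : QuasiCompact d.left := inferInstanceAs (QuasiCompact (Spec.map (CommRingCat.ofHom e.ψ)))
  refine FpqcSheaf.hom_ext_of_flat hX d ?_
  have hsq : d ≫ sq.j = (Over.homMk (Spec.map (CommRingCat.ofHom (algebraMap e.A' e.K'))) rfl :
      e.ptK' ⟶ e.ptA') ≫ c := Over.OverMorphism.ext (by
    show Spec.map _ ≫ Spec.map _ = Spec.map _ ≫ Spec.map _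
    rw [← Spec.map_comp, ← Spec.map_comp, ← CommRingCat.ofHom_comp, ← CommRingCat.ofHom_comp, e.comm])
  refine ((yon S).map_comp_assoc d sq.j b).symm.trans ?_
  rw [hsq, Functor.map_comp, Category.assoc, hb, hl₁]

end Groth.Agent.ValSep
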